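import Cfsg.Agent.Helper7.ModTC.StemMain
import Cfsg.Agent.Helper98.J2Tab
import Cfsg.Agent.Helper98.J2Bsgs

/-!
# The `5`-part of the kernel of a stem extension of the Hall–Janko group

Two commuting elements `a`, `b` of order `5` generating a subgroup of order `25`, and an involution
`t` centralising `a` and inverting `b`: the preimage of `⟨a, b⟩` in a stem extension is abelian, so
the transfer kills the `24192`-th powers of the kernel.
-/

set_option autoImplicit false
set_option maxRecDepth 100000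

namespace Cfsg.Agent.Helper7.J2Mult

open scoped commutatorElement
open Cfsg.Agent.Helper7.ModTC

universe u v

section Abstract

variable {Γ : Type u} {G : Type v} [Group Γ] [Group G]

theorem conj_pow_of_central (x y c : Γ) (hc : c ∈ Subgroup.center Γ) (h : x * y * x⁻¹ = c * y)
    (n : ℕ) : x * y ^ n * x⁻¹ = c ^ n * y ^ n := by
  have hcm := fun g => Subgroup.mem_center_iff.mp hc g
  induction n with
  | zero => simp
  | succ n ih =>
    have hyc : ∀ k : ℕ, y ^ k * c = c * y ^ k := fun k => hcm (y ^ k)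
    calc x * y ^ (n + 1) * x⁻¹ = (x * y ^ n * x⁻¹) * (x * y * x⁻¹) := by rw [pow_succ]; group
      _ = c ^ n * y ^ n * (c * y) := by rw [ih, h]
      _ = c ^ n * (y ^ n * c) * y := by group
      _ = c ^ n * (c * y ^ n) * y := by rw [hyc]
      _ = c ^ (n + 1) * y ^ (n + 1) := by rw [pow_succ, pow_succ]; group

/-- the preimage of an abelian subgroup `⟨a, b⟩` with an element centralising `a` and inverting
`b`, of odd order, is abelian; hence the transfer into it kills the kernel -/
theorem abelian_pair_bound [Finite Γ] (σ : Γ →* G) (hσ : Cfsg.IsStemExtension σ) (a b t : G)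
    (hab : a * b = b * a) (hb5 : b ^ 5 = 1) (hta : t * a * t⁻¹ = a) (htb : t * b * t⁻¹ = b⁻¹) :
    ∀ z ∈ σ.ker, z ^ (Subgroup.closure ({a, b} : Set G)).index = 1 := by
  have hker : ∀ g, g ∈ σ.ker → g ∈ Subgroup.center Γ := fun g hg => hσ.2.1 hg
  obtain ⟨a', rfl⟩ := hσ.1 a
  obtain ⟨b', rfl⟩ := hσ.1 b
  obtain ⟨t', rfl⟩ := hσ.1 t
  -- the commutator of the lifts
  have hcker : ⁅a', b'⁆ ∈ σ.ker := by
    rw [MonoidHom.mem_ker, map_commutatorElement, commutatorElement_eq_one_iff_mul_comm]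
    exact hab
  have hcc := hker _ hcker
  have hcm := fun g => Subgroup.mem_center_iff.mp hcc g
  have h1 : a' * b' * a'⁻¹ = ⁅a', b'⁆ * b' := by rw [commutatorElement_def]; group
  -- fifth power
  have h5 : ⁅a', b'⁆ ^ 5 = 1 := by
    have hb5k : b' ^ 5 ∈ Subgroup.center Γ := by
      apply hker
      rw [MonoidHom.mem_ker, map_pow, hb5]
    have e1 := conj_pow_of_central a' b' _ hcc h1 5
    have e2 : a' * b' ^ 5 * a'⁻¹ = b' ^ 5 := by
      rw [Subgroup.mem_center_iff.mp hb5k a']; group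
    rw [e2] at e1
    exact (mul_eq_right.mp e1.symm)
  -- square
  have h2 : ⁅a', b'⁆ * ⁅a', b'⁆ = 1 := by
    have hk1 : a'⁻¹ * (t' * a' * t'⁻¹) ∈ Subgroup.center Γ := by
      apply hker
      rw [MonoidHom.mem_ker, map_mul, map_inv, map_mul, map_mul, map_inv, hta, inv_mul_cancel]
    have hk2 : b' * (t' * b' * t'⁻¹) ∈ Subgroup.center Γ := by
      apply hker
      rw [MonoidHom.mem_ker, map_mul, map_mul, map_mul, map_inv, htb, mul_inv_cancel]
    have e1 : t' * ⁅a', b'⁆ * t'⁻¹ = ⁅a', b'⁆ := by rw [hcm t']; group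
    have e2 : t' * ⁅a', b'⁆ * t'⁻¹ = ⁅t' * a' * t'⁻¹, t' * b' * t'⁻¹⁆ := by
      rw [commutatorElement_def, commutatorElement_def]; group
    have e3 : t' * a' * t'⁻¹ = a' * (a'⁻¹ * (t' * a' * t'⁻¹)) := by group
    have e4 : t' * b' * t'⁻¹ = b'⁻¹ * (b' * (t' * b' * t'⁻¹)) := by group
    rw [e3, e4, commutatorElement_mul_central _ _ _ _ hk1 hk2] at e2
    have e5 : ⁅a', b'⁻¹⁆ = b'⁻¹ * (⁅a', b'⁆)⁻¹ * b' := by
      rw [commutatorElement_def, commutatorElement_def]; group
    have e6 : b'⁻¹ * (⁅a', b'⁆)⁻¹ * b' = (⁅a', b'⁆)⁻¹ := by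
      rw [Subgroup.mem_center_iff.mp (Subgroup.inv_mem _ hcc) b'⁻¹]; group
    rw [e5, e6, e1] at e2
    exact mul_eq_one_iff_eq_inv.mpr e2
  have hc1 : ⁅a', b'⁆ = 1 := by
    have hx : ∀ x : Γ, x ^ 5 = (x * x) * (x * x) * x := by
      intro x; simp only [pow_succ, pow_zero, one_mul, mul_assoc]
    have := hx ⁅a', b'⁆
    rw [h2, one_mul, one_mul] at this
    rw [← this]; exact h5
  have hcomm : a' * b' = b' * a' := commutatorElement_eq_one_iff_mul_comm.mp hc1
  -- the preimage is abelian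
  have hS : ∀ x ∈ ({a', b'} : Set Γ), ∀ y ∈ ({a', b'} : Set Γ), x * y = y * x := by
    intro x hx y hy
    simp only [Set.mem_insert_iff, Set.mem_singleton_iff] at hx hy
    rcases hx with rfl | rfl <;> rcases hy with rfl | rfl
    · rfl
    · exact hcomm
    · exact hcomm.symm
    · rfl
  have hA : ∀ l₁ ∈ Subgroup.closure ({a', b'} : Set Γ), ∀ l₂ ∈ Subgroup.closure ({a', b'} : Set Γ),
      l₁ * l₂ = l₂ * l₁ := by
    intro l₁ h₁ l₂ h₂
    have := (Subgroup.closureCommGroupOfComm hS).mul_comm ⟨l₁, h₁⟩ ⟨l₂, h₂⟩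
    exact congrArg Subtype.val this
  have hmap : (Subgroup.closure ({a', b'} : Set Γ)).map σ =
      Subgroup.closure ({σ a', σ b'} : Set G) := by
    rw [MonoidHom.map_closure, Set.image_pair]
  have hbot : ⁅(Subgroup.closure ({σ a', σ b'} : Set G)).comap σ,
      (Subgroup.closure ({σ a', σ b'} : Set G)).comap σ⁆ = ⊥ := by
    rw [eq_bot_iff, Subgroup.commutator_le]
    have hdec : ∀ g ∈ (Subgroup.closure ({σ a', σ b'} : Set G)).comap σ,
        ∃ l ∈ Subgroup.closure ({a', b'} : Set Γ), ∃ c ∈ Subgroup.center Γ, g = l * c := by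
      intro g hg
      rw [Subgroup.mem_comap, ← hmap] at hg
      obtain ⟨l, hl, e⟩ := hg
      refine ⟨l, hl, l⁻¹ * g, ?_, by group⟩
      apply hker
      rw [MonoidHom.mem_ker, map_mul, map_inv, e, inv_mul_cancel]
    intro g₁ hg₁ g₂ hg₂
    obtain ⟨l₁, hl₁, c₁, hc₁, rfl⟩ := hdec g₁ hg₁
    obtain ⟨l₂, hl₂, c₂, hc₂, rfl⟩ := hdec g₂ hg₂
    rw [commutatorElement_mul_central _ _ _ _ hc₁ hc₂, Subgroup.mem_bot,
      commutatorElement_eq_one_iff_mul_comm]
    exact hA l₁ hl₁ l₂ hl₂
  intro z hz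
  have := Cfsg.Agent.Helper96.StemBound.ker_pow_index_mem σ hσ
    (Subgroup.closure ({σ a', σ b'} : Set G)) hz
  rwa [hbot, Subgroup.mem_bot] at this

end Abstract

section Concrete

open Cfsg.Agent.Helper7.J2 Cfsg.Agent.Helper98.J2

/-- the indices of `a`, `b` and `t` -/
def fiveA : ℕ := 599688
def fiveB : ℕ := 245136
def fiveT : ℕ := 148253

def fiveTab : List ℕ := [0, 599688, 245136, 21714, 238111, 181657, 571169, 255490, 104413, 395256, 302630, 441553, 400320, 169025, 148757, 382417, 389184, 447963, 364046, 270475, 283471, 569848, 73042, 462277, 588655]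
def fivePerm : List (List ℕ) := [[1, 3, 4, 6, 7, 8, 10, 11, 12, 13, 0, 15, 16, 17, 18, 2, 19, 20, 21, 5, 22, 23, 9, 24, 14], [2, 4, 5, 7, 8, 9, 11, 12, 13, 14, 15, 16, 17, 18, 0, 19, 20, 21, 1, 22, 23, 3, 24, 6, 10]]
def fivePar : List ℕ := [0, 0, 0, 1, 1, 2, 3, 3, 4, 5, 6, 6, 7, 8, 9, 10, 11, 12, 13, 15, 16, 17, 19, 20, 22]
def fivePgen : List ℕ := [0, 0, 1, 0, 1, 1, 0, 1, 1, 1, 0, 1, 1, 1, 1, 1, 1, 1, 1, 1, 1, 1, 1, 1, 1]

theorem five_tbl : tblOK [fiveA, fiveB] fiveTab fivePerm fivePar fivePgen = true := by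
  decide +kernel

theorem five_chk : wEq [fiveA, fiveB] [fiveB, fiveA] = true ∧
    wEq [fiveB, fiveB, fiveB, fiveB, fiveB] [] = true ∧
    wEq [fiveT, fiveA] [fiveA, fiveT] = true ∧ wEq [fiveT, fiveT] [] = true ∧
    wEq [fiveT, fiveB, fiveT, fiveB] [] = true := by decide +kernel

theorem five_card : Nat.card (Subgroup.closure ({elM fiveA, elM fiveB} : Set ↥G315)) = 25 := by
  have h := tbl_card five_tbl (by decide)
  have e : tblSub [fiveA, fiveB] = Subgroup.closure ({elM fiveA, elM fiveB} : Set ↥G315) := by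
    show Subgroup.closure {g | ∃ k < [fiveA, fiveB].length, g = elM ([fiveA, fiveB].getD k 0)} = _
    congr 1
    ext g
    simp only [Set.mem_setOf_eq, Set.mem_insert_iff, Set.mem_singleton_iff, List.length_cons,
      List.length_nil]
    constructor
    · rintro ⟨k, hk, rfl⟩
      have : k = 0 ∨ k = 1 := by omega
      rcases this with rfl | rfl
      · left; rfl
      · right; rfl
    · rintro (rfl | rfl)
      · exact ⟨0, by norm_num, rfl⟩
      · exact ⟨1, by norm_num, rfl⟩
  rw [e] at h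
  rw [h]
  rfl

theorem five_index : (Subgroup.closure ({elM fiveA, elM fiveB} : Set ↥G315)).index = 24192 := by
  have h2 := Subgroup.card_mul_index (Subgroup.closure ({elM fiveA, elM fiveB} : Set ↥G315))
  rw [five_card, card_G315] at h2
  omega

/-- every element of the kernel of a finite stem extension of `G315` has order dividing `24192` -/
theorem five_main {Γ : Type u} [Group Γ] [Finite Γ] (σ : Γ →* ↥G315)
    (hσ : Cfsg.IsStemExtension σ) : ∀ g ∈ σ.ker, g ^ 24192 = 1 := by
  obtain ⟨c1, c2, c3, c4, c5⟩ := five_chk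
  have hab : elM fiveA * elM fiveB = elM fiveB * elM fiveA := by
    have := wEq_spec c1
    rwa [wordM_two, wordM_two] at this
  have hb5 : elM fiveB ^ 5 = 1 := by
    have := wEq_spec c2
    simp only [wordM_cons, wordM_nil, mul_one] at this
    have hx : ∀ x : ↥G315, x ^ 5 = x * (x * (x * (x * x))) := by
      intro x; simp only [pow_succ, pow_zero, one_mul, mul_assoc]
    rw [hx, this]
  have hta0 : elM fiveT * elM fiveA = elM fiveA * elM fiveT := by
    have := wEq_spec c3
    rwa [wordM_two, wordM_two] at this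
  have htt : elM fiveT * elM fiveT = 1 := by
    have := wEq_spec c4
    rwa [wordM_two, wordM_nil] at this
  have htinv : (elM fiveT)⁻¹ = elM fiveT := inv_eq_of_mul_eq_one_left htt
  have htb0 : elM fiveT * elM fiveB * elM fiveT * elM fiveB = 1 := by
    have := wEq_spec c5
    simp only [wordM_cons, wordM_nil, mul_one] at this
    rw [← this]; simp only [mul_assoc]
  have hta : elM fiveT * elM fiveA * (elM fiveT)⁻¹ = elM fiveA := by
    rw [hta0]; group
  have htb : elM fiveT * elM fiveB * (elM fiveT)⁻¹ = (elM fiveB)⁻¹ := by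
    rw [htinv]
    exact eq_inv_of_mul_eq_one_left htb0
  have := abelian_pair_bound σ hσ (elM fiveA) (elM fiveB) (elM fiveT) hab hb5 hta htb
  rw [five_index] at this
  exact this

end Concrete

end Cfsg.Agent.Helper7.J2Mult
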