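import Cfsg.Agent.Helper98.J2Tab
import Cfsg.Agent.Helper7.ModTC.StemMain

/-!
# Labelled coset tables over the permutation model `G315` of the Hall–Janko group

The hypotheses of `ModTC.stem_main` on the side of the group are decided by evaluating words of
element indices at the base points.
-/

set_option autoImplicit false

namespace Cfsg.Agent.Helper7.J2Mult

open Cfsg.Agent.Helper7.J2 Cfsg.Agent.Helper98.J2 Cfsg.Agent.Helper7.ModTC

universe u

/-- the generators given by a list of the indices of `x 0, (x 0)⁻¹, x 1, (x 1)⁻¹, …` -/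
noncomputable def xOf (li : List ℕ) (i : ℕ) : ↥G315 := elM (li.getD (2 * i) 0)

/-- a word in letters as a word in element indices -/
def letW (li : List ℕ) (w : List ℕ) : List ℕ := w.map fun l => li.getD l 0

/-- the odd entries are the inverses of the even ones -/
def invChk (li : List ℕ) : Bool :=
  (List.range (li.length / 2 + 1)).all fun i => wEq [li.getD (2 * i) 0, li.getD (2 * i + 1) 0] []

theorem evL_xOf {li : List ℕ} (h : invChk li = true) (l : ℕ) :
    evL (xOf li) l = elM (li.getD l 0) := by
  unfold evL xOf
  rcases Nat.mod_two_eq_zero_or_one l with hl | hl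
  · rw [if_pos hl]
    congr 2
    omega
  · rw [if_neg (by omega)]
    have h2 : 2 * (l / 2) + 1 = l := by omega
    rcases Nat.lt_or_ge (l / 2) (li.length / 2 + 1) with hi | hi
    · simp only [invChk, List.all_eq_true, List.mem_range] at h
      have := wEq_spec (h (l / 2) hi)
      rw [wordM_two, wordM_nil, h2] at this
      exact inv_eq_of_mul_eq_one_right this
    · rw [List.getD_eq_default _ _ (by omega), List.getD_eq_default _ _ (by omega), elM_zero,
        inv_one]

theorem ev_xOf {li : List ℕ} (h : invChk li = true) (w : List ℕ) :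
    ev (xOf li) w = wordM (letW li w) := by
  induction w with
  | nil => rfl
  | cons l w ih =>
    rw [ev_cons, ih, evL_xOf h]
    show _ = wordM (li.getD l 0 :: letW li w)
    rw [wordM_cons]

/-- the check of the relators and of the words with zero exponent sums -/
def relChk (li : List ℕ) (m k : ℕ) (relsL zwsL : List (List ℕ)) : Bool :=
  ((List.range m).all fun b => wEq (letW li (relsL.getD b [])) []) &&
  ((List.range k).all fun i => wEq (letW li (zwsL.getD i [])) [li.getD (2 * i) 0] &&
    Cert.isZero (esum (zwsL.getD i [])))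

/-- the check of the elements of the nodes -/
def nodeChk (li : List ℕ) (C : Cert) (T : ℕ → ℕ) (c : ℕ) : Bool :=
  wEq (letW li (C.tw c)) [T c] && (decide (C.N ≤ c + 1) || decide (T c < T (c + 1)))

/-- the check of the elements of a range of nodes -/
def nodeRange (li : List ℕ) (C : Cert) (T : ℕ → ℕ) (lo len : ℕ) : Bool :=
  (List.range len).all fun i => nodeChk li C T (lo + i)

theorem nodeRange_spec {li : List ℕ} {C : Cert} {T : ℕ → ℕ} {lo len : ℕ}
    (h : nodeRange li C T lo len = true) {c : ℕ} (h1 : lo ≤ c) (h2 : c < lo + len) :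
    nodeChk li C T c = true := by
  simp only [nodeRange, List.all_eq_true, List.mem_range] at h
  have := h (c - lo) (by omega)
  rwa [show lo + (c - lo) = c by omega] at this

theorem glue_main {Γ : Type u} [Group Γ] [Finite Γ] (σ : Γ →* ↥G315)
    (hσ : Cfsg.IsStemExtension σ) (C : Cert) (k m : ℕ) (relsL zwsL : List (List ℕ))
    (li : List ℕ) (T : ℕ → ℕ)
    (hnl : C.nl = 2 * k)
    (hbase : C.base = mkBase m k (fun b => relsL.getD b []) (fun i => zwsL.getD i []))
    (hk : li.length = 2 * k) (hzl : zwsL.length = k)
    (hinv : invChk li = true) (hrel : relChk li m k relsL zwsL = true)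
    (hnode : ∀ c < C.N, nodeChk li C T c = true)
    (htw0 : C.tw 0 = []) (hN : 0 < C.N)
    (hchk : ∀ c l, c < C.N → l < C.nl → C.chkEdge c l = true) :
    Nat.card (Subgroup.closure (Set.range (xOf li))) = C.N ∧
    ∃ z : ℕ → Γ, (∀ j, z j ∈ Subgroup.center Γ) ∧ (∀ j, m ≤ j → z j = 1) ∧
      (∀ bd b s ρ, C.relVec bd b s = some ρ → zpv z 0 ρ = 1) ∧
      ∀ g ∈ σ.ker, ∃ w : List ℤ,
        g ^ (Subgroup.closure (Set.range (xOf li))).index = zpv z 0 w := by
  simp only [relChk, Bool.and_eq_true, List.all_eq_true, List.mem_range] at hrel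
  obtain ⟨hr1, hr2⟩ := hrel
  have hev : ∀ c < C.N, ev (xOf li) (C.tw c) = elM (T c) ∧ T c < 604800 ∧
      (c + 1 < C.N → T c < T (c + 1)) := by
    intro c hc
    have := hnode c hc
    simp only [nodeChk, Bool.and_eq_true, Bool.or_eq_true, decide_eq_true_eq] at this
    obtain ⟨h1, h2⟩ := this
    refine ⟨?_, ?_, ?_⟩
    · rw [ev_xOf hinv, wEq_spec h1, wordM_one]
    · simp only [wEq, Bool.and_eq_true] at h1
      exact okL_spec h1.1.2 _ (by simp)
    · intro h3
      rcases h2 with h2 | h2
      · omega
      · exact h2
  have hmono : ∀ b, ∀ a, a < b → b < C.N → T a < T b := by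
    intro b
    induction b with
    | zero => intro a h; omega
    | succ b ih =>
      intro a hab hb
      have h1 := (hev b (by omega)).2.2 hb
      rcases Nat.lt_or_ge a b with h | h
      · exact lt_trans (ih a h (by omega)) h1
      · have : a = b := by omega
        rw [this]; exact h1
  refine stem_main σ hσ C k m (fun b => relsL.getD b []) (fun i => zwsL.getD i []) (xOf li)
    hnl hbase ?_ ?_ ?_ ?_ ?_ ?_ htw0 hN hchk
  · intro i hi
    unfold xOf
    rw [List.getD_eq_default _ _ (by omega), elM_zero]
  · intro i hi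
    exact List.getD_eq_default _ _ (by omega)
  · intro b hb
    rw [ev_xOf hinv, wEq_spec (hr1 b hb), wordM_nil]
  · intro i hi
    rw [ev_xOf hinv, wEq_spec (hr2 i hi).1, wordM_one]
    rfl
  · intro i hi
    exact (hr2 i hi).2
  · intro c hc c' hc' e
    rw [(hev c hc).1, (hev c' hc').1] at e
    have e' := elM_inj (hev c hc).2.1 (hev c' hc').2.1 e
    rcases Nat.lt_trichotomy c c' with h | h | h
    · have := hmono c' c h hc'; omega
    · exact h
    · have := hmono c c' h hc; omega

end Cfsg.Agent.Helper7.J2Mult
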