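import Cfsg.Agent.Helper7.J2.CenterChk
import Cfsg.Agent.Helper98.J2Simple
import Cfsg.Agent.Helper50.J2D
import Cfsg.Agent.Helper96.StemBound

/-!
# The reflection group `twoJ2` is a stem extension of `J2`

An element `u` of `twoJ2`, a product of four reflections, with `u * u = -1`; since `J2` is perfect,
`-1` is then a product of commutators.
-/

set_option autoImplicit false
set_option linter.constructorNameAsVariable false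
set_option maxRecDepth 100000

open Quaternion Cfsg.Spor Cfsg.Agent.Helper91.J2A Cfsg.Agent.Helper91.J2B Cfsg.Agent.Helper68.J2C
open Cfsg.Agent.Helper7.J2
open scoped commutatorElement

namespace Cfsg.Agent.Helper7.J2Mult

/-- the product of the reflections in a list of lines (the first of the list acting first) -/
noncomputable def wordEl : List ℕ → Equiv.Perm icoLeech
  | [] => 1
  | k :: rest => wordEl rest * lineRefl (lineAt k)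

theorem wordEl_mem : ∀ ks : List ℕ, (∀ k ∈ ks, k < 315) → wordEl ks ∈ twoJ2
  | [], _ => twoJ2.one_mem
  | k :: rest, h =>
    twoJ2.mul_mem (wordEl_mem rest fun k' hk' => h k' (List.mem_cons_of_mem _ hk'))
      (lineRefl_mem (lineAt_mem (h k (List.mem_cons_self))))

theorem wordEl_append : ∀ a b : List ℕ, wordEl (a ++ b) = wordEl b * wordEl a
  | [], b => by simp [wordEl]
  | k :: a, b => by
    rw [List.cons_append, wordEl, wordEl, wordEl_append a b, mul_assoc]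

theorem wordEl_sound : ∀ (ws : List (ℕ × V3)) (X : V3), wordChk ws X = true →
    ∀ x : icoLeech, (x : Fin 3 → ℍ[ℝ]) = toV X →
      ((wordEl (ws.map Prod.fst) x : icoLeech) : Fin 3 → ℍ[ℝ]) = toV (endOf ws X)
  | [], X, _ => fun x hx => hx
  | (k, Y) :: rest, X, h => by
    simp only [wordChk, Bool.and_eq_true, decide_eq_true_eq] at h
    obtain ⟨hk, hc, hrest⟩ := h
    have hl := lineAt_mem hk
    intro x hx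
    show ((wordEl (rest.map Prod.fst) * lineRefl (lineAt k)) x : Fin 3 → ℍ[ℝ]) = _
    rw [Equiv.Perm.mul_apply]
    apply wordEl_sound rest Y hrest
    rw [lineRefl_apply hl, hx]
    exact reflCheck_sound hc

/-- the lines of the four reflections -/
def uK : List ℕ := [92, 109, 56, 115]

def uW0 : List (ℕ × V3) := [(92, (⟨2, 0, 0, 0, 0, 0, 0, 0⟩, ⟨0, 0, 2, 0, 0, 0, 0, 0⟩, ⟨1, 0, 1, -2, -1, 0, 1, 0⟩)), (109, (⟨1, -1, -1, 0, 0, -1, 0, 0⟩, ⟨-1, 0, 1, 1, 0, 0, 2, -1⟩, ⟨1, 0, 1, -1, 0, 0, 0, 1⟩)), (56, (⟨0, -1, -2, 1, 0, -1, 0, 1⟩, ⟨-1, 0, 1, 0, -1, 0, 1, 0⟩, ⟨-1, 0, 1, 0, -1, 0, 1, 0⟩)), (115, (⟨0, 0, -1, 1, 0, -1, -1, 0⟩, ⟨1, -1, 0, 0, -1, 0, 0, 1⟩, ⟨-2, 1, 1, 0, 0, 0, 1, 1⟩)), (92, (⟨0, 0, 0, 0, 0, 0, 0, 0⟩, ⟨2, -2, 0, 0, -2, 0, 0, 2⟩, ⟨0, 0, 0, 0, 0, 0, 0, 0⟩)), (109, (⟨-1, 1, 0, 1, 0, 0, -1,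 0⟩, ⟨-1, 0, 0, 0, 0, -1, 1, 1⟩, ⟨0, 0, -1, 0, -1, 1, -2, 1⟩)), (56, (⟨-2, 2, 0, 0, 0, 0, 0, 0⟩, ⟨-1, 0, -1, 0, -1, 0, 1, 0⟩, ⟨0, -1, 0, -1, 0, 1, 0, 1⟩)), (115, (⟨-4, 0, 0, 0, 0, 0, 0, 0⟩, ⟨0, 0, 0, 0, 0, 0, 0, 0⟩, ⟨0, 0, 0, 0, 0, 0, 0, 0⟩))]

def uW1 : List (ℕ × V3) := [(92, (⟨0, 0, -2, 0, 0, 0, 0, 0⟩, ⟨2, 0, 0, 0, 0, 0, 0, 0⟩, ⟨-1, 2, 1, 0, -1, 0, -1, 0⟩)), (109, (⟨0, 0, -2, 1, -1, 0, -1, -1⟩, ⟨0, 1, 0, 0, -1, 1, -1, 0⟩, ⟨0, 1, 0, 0, -1, 1, -1, 0⟩)), (56, (⟨0, 0, 0, 0, 0, 0, 0, 0⟩, ⟨-1, 1, -1, -1, -1, 1, 1, -1⟩, ⟨1, -1, 1, 1, 1, -1, -1, 1⟩)), (115, (⟨-1, 1, 0, 0, -1, 0, 0, 1⟩, ⟨0, 0, -1, -1, 2, -1, -1, 0⟩, ⟨-1, 0, 0, 1, 1, -1, 0, 0⟩)), (92, (⟨-2, 0, 0, 0, 0, 0, 2, 0⟩, ⟨0, 0, 0, 0, 0, 0, 0, 0⟩, ⟨0, 0, -2, 0, -2, 0, 0, 0⟩)), (109, (⟨-1, 0, 0, 0, 0, -1, 1, -1⟩, ⟨1, -1, -2, 1, 0, 0, -1, 0⟩, ⟨0,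 -1, -1, -1, -1, 0, 0, 0⟩)), (56, (⟨-1, 0, 1, 0, 1, 0, -1, 0⟩, ⟨0, -2, 0, 0, 0, 0, 0, 0⟩, ⟨-1, 1, -1, 1, 1, -1, -1, 1⟩)), (115, (⟨0, 0, 0, 0, 0, 0, 0, 0⟩, ⟨-4, 0, 0, 0, 0, 0, 0, 0⟩, ⟨0, 0, 0, 0, 0, 0, 0, 0⟩))]

def uW2 : List (ℕ × V3) := [(92, (⟨1, 0, -1, 2, 1, 0, -1, 0⟩, ⟨-1, 2, -1, 0, 1, 0, 1, 0⟩, ⟨0, 0, 0, 0, 0, 0, 0, 0⟩)), (109, (⟨1, -1, -1, 0, 0, -1, 0, 0⟩, ⟨1, 0, 1, -1, 0, 0, 0, 1⟩, ⟨-1, 0, 1, 1, 0, 0, 2, -1⟩)), (56, (⟨2, -1, 0, -1, 0, -1, 0, -1⟩, ⟨1, 0, 1, 0, 1, 0, 1, 0⟩, ⟨1, 0, 1, 0, 1, 0, 1, 0⟩)), (115, (⟨2, -1, 1, 0, 0, 0, 1, 1⟩, ⟨1, 0, 0, 1, 1, -1, 0, 0⟩, ⟨0, 0, 1, -1, 0, -1, 1, 0⟩)), (92, (⟨2, 0, 0, 0, 0, 0, 2, 0⟩, ⟨0, 0, 0, 0, 0, 0, 0, 0⟩, ⟨0, 0, 2, 0, -2, 0, 0, 0⟩)), (109, (⟨1, -1, 0, 1, 0, 0, 1, -2⟩, ⟨-1, 0, 0, 0, 0, 1, 1, -1⟩, ⟨0, 0, 1, 0, -1, 1, 0, 1⟩)), (56, (⟨0, -1, 0, 1, 0,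 -1, 0, -1⟩, ⟨-1, 1, 1, -1, -1, 1, 1, -1⟩, ⟨-2, 0, 0, 0, 0, 0, 0, 0⟩)), (115, (⟨0, 0, 0, 0, 0, 0, 0, 0⟩, ⟨0, 0, 0, 0, 0, 0, 0, 0⟩, ⟨-4, 0, 0, 0, 0, 0, 0, 0⟩))]

/-- negation of raw vectors -/
def negV (X : V3) : V3 := (Q8.neg X.1, Q8.neg X.2.1, Q8.neg X.2.2)

theorem toV_negV (X : V3) : toV (negV X) = -toV X := by
  funext s
  fin_cases s <;> simp [negV, toV, Q8.toH_neg]

theorem uW_ok : (wordChk uW0 (rawE 0) = true ∧ uW0.map Prod.fst = uK ++ uK ∧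
      endOf uW0 (rawE 0) = negV (rawE 0)) ∧
    (wordChk uW1 (rawE 1) = true ∧ uW1.map Prod.fst = uK ++ uK ∧
      endOf uW1 (rawE 1) = negV (rawE 1)) ∧
    (wordChk uW2 (rawE 2) = true ∧ uW2.map Prod.fst = uK ++ uK ∧
      endOf uW2 (rawE 2) = negV (rawE 2)) := by decide +kernel

theorem uK_lt : ∀ k ∈ uK, k < 315 := by decide

/-- the element `u` -/
noncomputable def uEl : ↥twoJ2 := ⟨wordEl uK, wordEl_mem uK uK_lt⟩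

theorem uEl_sq_apply (t : Fin 3) :
    (((wordEl uK * wordEl uK) ⟨E t, E_mem t⟩ : icoLeech) : Fin 3 → ℍ[ℝ]) = -E t := by
  have e : ∀ t : Fin 3, ((⟨E t, E_mem t⟩ : icoLeech) : Fin 3 → ℍ[ℝ]) = toV (rawE t) :=
    fun t => (toV_rawE t).symm
  rw [← wordEl_append]
  obtain ⟨⟨a0, b0, c0⟩, ⟨a1, b1, c1⟩, ⟨a2, b2, c2⟩⟩ := uW_ok
  fin_cases t
  · have := wordEl_sound uW0 (rawE 0) a0 _ (e 0)
    rw [b0, c0, toV_negV, toV_rawE] at this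
    exact this
  · have := wordEl_sound uW1 (rawE 1) a1 _ (e 1)
    rw [b1, c1, toV_negV, toV_rawE] at this
    exact this
  · have := wordEl_sound uW2 (rawE 2) a2 _ (e 2)
    rw [b2, c2, toV_negV, toV_rawE] at this
    exact this

theorem uEl_sq {z : Equiv.Perm icoLeech} (hz : z ∈ twoJ2)
    (h : ∀ x : icoLeech, ((z x : icoLeech) : Fin 3 → ℍ[ℝ]) = -(x : Fin 3 → ℍ[ℝ])) :
    uEl * uEl = ⟨z, hz⟩ := by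
  apply Subtype.ext
  show wordEl uK * wordEl uK = z
  apply ext_of_frame (twoJ2.mul_mem (wordEl_mem uK uK_lt) (wordEl_mem uK uK_lt)) hz
  intro t
  apply Subtype.ext
  rw [uEl_sq_apply, h]

/-- a simple group which is not commutative is perfect -/
theorem commutator_eq_top_of_simple {G : Type*} [Group G] [IsSimpleGroup G] {a b : G}
    (hab : a * b ≠ b * a) : commutator G = ⊤ := by
  rcases (inferInstance : (commutator G).Normal).eq_bot_or_eq_top with h | h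
  · exfalso
    apply hab
    have : ⁅a, b⁆ ∈ commutator G := by
      rw [commutator_def]
      exact Subgroup.commutator_mem_commutator (Subgroup.mem_top a) (Subgroup.mem_top b)
    rw [h, Subgroup.mem_bot] at this
    exact commutatorElement_eq_one_iff_mul_comm.mp this
  · exact h

end Cfsg.Agent.Helper7.J2Mult
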