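import Cfsg.Agent.Helper7.J2Mult.Lower
import Cfsg.Agent.S1620

/-!
# `twoJ2 → J2` is a stem extension with kernel of order two
-/

set_option autoImplicit false

open Quaternion Cfsg.Spor Cfsg.Agent.Helper68.J2C Cfsg.Agent.Helper7.J2
open scoped commutatorElement

namespace Cfsg.Agent.Helper7.J2Mult

theorem commutator_J2 : commutator Cfsg.Spor.J2 = ⊤ := by
  obtain ⟨hs, a, b, hab⟩ := Cfsg.Agent.S1620.result
  have := hs
  exact commutator_eq_top_of_simple hab

theorem card_center_twoJ2 : Nat.card ↥(Subgroup.center ↥twoJ2) = 2 := by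
  obtain ⟨gi, hgi, gw, hgw, h1, hh1, h2, hh2, egi, egw, eh1, eh2⟩ :=
    Cfsg.Agent.Helper7.J2.exists_frame_movers
  exact Cfsg.Agent.Helper50.J2D.card_center_eq_two hgi hgw hh1 hh2 egi egw eh1 eh2

theorem center_le_commutator : Subgroup.center ↥twoJ2 ≤ commutator ↥twoJ2 := by
  obtain ⟨z, hz, hzx⟩ := exists_neg_one
  have hζc : (⟨z, hz⟩ : ↥twoJ2) ∈ Subgroup.center ↥twoJ2 := neg_one_mem_center hz hzx
  have hu := uEl_sq hz hzx
  have hcard := card_center_twoJ2
  have : Finite ↥(Subgroup.center ↥twoJ2) := Nat.finite_of_card_ne_zero (by rw [hcard]; norm_num)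
  -- `u` is a commutator product times a central element
  have hmap : (commutator ↥twoJ2).map (QuotientGroup.mk' (Subgroup.center ↥twoJ2)) = ⊤ := by
    rw [← commutator_J2, commutator_def, commutator_def, Subgroup.map_commutator,
      ← MonoidHom.range_eq_map,
      MonoidHom.range_eq_top.mpr (QuotientGroup.mk'_surjective (Subgroup.center ↥twoJ2))]
  have hmem : QuotientGroup.mk' (Subgroup.center ↥twoJ2) uEl ∈
      (commutator ↥twoJ2).map (QuotientGroup.mk' (Subgroup.center ↥twoJ2)) := by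
    rw [hmap]; exact Subgroup.mem_top _
  obtain ⟨e', he', heq⟩ := hmem
  have hc : e'⁻¹ * uEl ∈ Subgroup.center ↥twoJ2 := by
    rw [← QuotientGroup.eq]
    exact heq
  have hcm := fun g => Subgroup.mem_center_iff.mp hc g
  have hcsq : (e'⁻¹ * uEl) * (e'⁻¹ * uEl) = 1 := by
    have := pow_card_eq_one' (G := ↥(Subgroup.center ↥twoJ2)) (x := ⟨e'⁻¹ * uEl, hc⟩)
    rw [hcard] at this
    have h2 := congrArg Subtype.val this
    rw [pow_two] at h2
    exact h2
  have hζmem : (⟨z, hz⟩ : ↥twoJ2) ∈ commutator ↥twoJ2 := by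
    have e1 : uEl * uEl = e' * e' * ((e'⁻¹ * uEl) * (e'⁻¹ * uEl)) := by
      calc uEl * uEl = e' * ((e'⁻¹ * uEl) * e') * (e'⁻¹ * uEl) := by group
        _ = e' * (e' * (e'⁻¹ * uEl)) * (e'⁻¹ * uEl) := by rw [← hcm e']
        _ = e' * e' * ((e'⁻¹ * uEl) * (e'⁻¹ * uEl)) := by group
    rw [← hu, e1, hcsq, mul_one]
    exact Subgroup.mul_mem _ he' he'
  -- the centre is `{1, -1}`
  have hne : (⟨⟨z, hz⟩, hζc⟩ : ↥(Subgroup.center ↥twoJ2)) ≠ 1 := by
    intro h
    have h1 : z = 1 := congrArg (fun w : ↥(Subgroup.center ↥twoJ2) => ((w : ↥twoJ2) : Equiv.Perm icoLeech)) h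
    have h2 := hzx ⟨E 0, E_mem 0⟩
    rw [h1] at h2
    have h3 := congrFun h2 0
    simp [E] at h3
    have h4 := congrArg (fun q : ℍ[ℝ] => q.re) h3
    have e1 : (2 : ℍ[ℝ]).re = 2 := rfl
    have e2 : (-2 : ℍ[ℝ]).re = -2 := rfl
    simp only [e1, e2] at h4
    norm_num at h4
  obtain ⟨y, -, hy⟩ := (Nat.card_eq_two_iff' (1 : ↥(Subgroup.center ↥twoJ2))).mp hcard
  intro w hw
  by_cases h1 : (⟨w, hw⟩ : ↥(Subgroup.center ↥twoJ2)) = 1
  · have : w = 1 := congrArg Subtype.val h1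
    rw [this]; exact Subgroup.one_mem _
  · have e1 := hy _ h1
    have e2 := hy _ hne
    have : (⟨w, hw⟩ : ↥(Subgroup.center ↥twoJ2)) = ⟨⟨z, hz⟩, hζc⟩ := by rw [e1, e2]
    have : w = ⟨z, hz⟩ := congrArg Subtype.val this
    rw [this]; exact hζmem

/-- the reflection group is a stem extension of the Hall–Janko group -/
theorem isStemExtension_mk : Cfsg.IsStemExtension (QuotientGroup.mk' (Subgroup.center ↥twoJ2)) := by
  refine ⟨QuotientGroup.mk'_surjective _, ?_, ?_⟩
  · rw [QuotientGroup.ker_mk']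
  · rw [QuotientGroup.ker_mk']; exact center_le_commutator

theorem card_ker_mk : Nat.card (QuotientGroup.mk' (Subgroup.center ↥twoJ2)).ker = 2 := by
  rw [QuotientGroup.ker_mk']; exact card_center_twoJ2

end Cfsg.Agent.Helper7.J2Mult
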