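import Cfsg.Agent.Helper7.J2Mult.p3Chk0
import Cfsg.Agent.Helper7.J2Mult.p3Chk1
import Cfsg.Agent.Helper7.J2Mult.p3Chk2
import Cfsg.Agent.Helper7.J2Mult.p3Chk3
import Cfsg.Agent.Helper7.J2Mult.p3Chk4
import Cfsg.Agent.Helper7.J2Mult.p3Chk5
import Cfsg.Agent.Helper7.J2Mult.p3Chk6
import Cfsg.Agent.Helper7.J2Mult.p3Chk7
import Cfsg.Agent.Helper7.J2Mult.p3Chk8
import Cfsg.Agent.Helper7.J2Mult.p3Chk9
import Cfsg.Agent.Helper7.J2Mult.p3Chk10
import Cfsg.Agent.Helper7.J2Mult.p3Chk11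
import Cfsg.Agent.Helper7.J2Mult.p3Chk12
import Cfsg.Agent.Helper7.J2Mult.p3Chk13
import Cfsg.Agent.Helper7.J2Mult.p3Chk14
import Cfsg.Agent.Helper7.J2Mult.p3Chk15
import Cfsg.Agent.Helper7.J2Mult.p3Chk16
import Cfsg.Agent.Helper7.J2Mult.p3Chk17
import Cfsg.Agent.Helper7.J2Mult.p3Chk18
import Cfsg.Agent.Helper7.J2Mult.p3Chk19
import Cfsg.Agent.Helper7.J2Mult.p3Chk20
import Cfsg.Agent.Helper7.J2Mult.p3Chk21
import Cfsg.Agent.Helper7.J2Mult.p3Chk22
import Cfsg.Agent.Helper7.J2Mult.p3Chk23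

set_option autoImplicit false
set_option maxRecDepth 1000000
set_option maxHeartbeats 0

namespace Cfsg.Agent.Helper7.J2Mult

open Cfsg.Agent.Helper7.ModTC

theorem p3_chk : ∀ c l, c < p3C.N → l < p3C.nl → p3C.chkEdge c l = true := by
  intro c l hc hl
  have hc' : c < 6048 := hc
  rcases Nat.lt_or_ge c 256 with h0 | h0
  · exact p3C.chkRange_spec p3_chk0 (by omega) (by omega) hl
  rcases Nat.lt_or_ge c 512 with h1 | h1
  · exact p3C.chkRange_spec p3_chk1 (by omega) (by omega) hl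
  rcases Nat.lt_or_ge c 768 with h2 | h2
  · exact p3C.chkRange_spec p3_chk2 (by omega) (by omega) hl
  rcases Nat.lt_or_ge c 1024 with h3 | h3
  · exact p3C.chkRange_spec p3_chk3 (by omega) (by omega) hl
  rcases Nat.lt_or_ge c 1280 with h4 | h4
  · exact p3C.chkRange_spec p3_chk4 (by omega) (by omega) hl
  rcases Nat.lt_or_ge c 1536 with h5 | h5
  · exact p3C.chkRange_spec p3_chk5 (by omega) (by omega) hl
  rcases Nat.lt_or_ge c 1792 with h6 | h6
  · exact p3C.chkRange_spec p3_chk6 (by omega) (by omega) hl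
  rcases Nat.lt_or_ge c 2048 with h7 | h7
  · exact p3C.chkRange_spec p3_chk7 (by omega) (by omega) hl
  rcases Nat.lt_or_ge c 2304 with h8 | h8
  · exact p3C.chkRange_spec p3_chk8 (by omega) (by omega) hl
  rcases Nat.lt_or_ge c 2560 with h9 | h9
  · exact p3C.chkRange_spec p3_chk9 (by omega) (by omega) hl
  rcases Nat.lt_or_ge c 2816 with h10 | h10
  · exact p3C.chkRange_spec p3_chk10 (by omega) (by omega) hl
  rcases Nat.lt_or_ge c 3072 with h11 | h11
  · exact p3C.chkRange_spec p3_chk11 (by omega) (by omega) hl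
  rcases Nat.lt_or_ge c 3328 with h12 | h12
  · exact p3C.chkRange_spec p3_chk12 (by omega) (by omega) hl
  rcases Nat.lt_or_ge c 3584 with h13 | h13
  · exact p3C.chkRange_spec p3_chk13 (by omega) (by omega) hl
  rcases Nat.lt_or_ge c 3840 with h14 | h14
  · exact p3C.chkRange_spec p3_chk14 (by omega) (by omega) hl
  rcases Nat.lt_or_ge c 4096 with h15 | h15
  · exact p3C.chkRange_spec p3_chk15 (by omega) (by omega) hl
  rcases Nat.lt_or_ge c 4352 with h16 | h16
  · exact p3C.chkRange_spec p3_chk16 (by omega) (by omega) hl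
  rcases Nat.lt_or_ge c 4608 with h17 | h17
  · exact p3C.chkRange_spec p3_chk17 (by omega) (by omega) hl
  rcases Nat.lt_or_ge c 4864 with h18 | h18
  · exact p3C.chkRange_spec p3_chk18 (by omega) (by omega) hl
  rcases Nat.lt_or_ge c 5120 with h19 | h19
  · exact p3C.chkRange_spec p3_chk19 (by omega) (by omega) hl
  rcases Nat.lt_or_ge c 5376 with h20 | h20
  · exact p3C.chkRange_spec p3_chk20 (by omega) (by omega) hl
  rcases Nat.lt_or_ge c 5632 with h21 | h21
  · exact p3C.chkRange_spec p3_chk21 (by omega) (by omega) hl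
  rcases Nat.lt_or_ge c 5888 with h22 | h22
  · exact p3C.chkRange_spec p3_chk22 (by omega) (by omega) hl
  exact p3C.chkRange_spec p3_chk23 (by omega) (by omega) hl

end Cfsg.Agent.Helper7.J2Mult
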