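import Cfsg.Agent.Helper7.J2Mult.p3Node0
import Cfsg.Agent.Helper7.J2Mult.p3Node1
import Cfsg.Agent.Helper7.J2Mult.p3Node2
import Cfsg.Agent.Helper7.J2Mult.p3Node3
import Cfsg.Agent.Helper7.J2Mult.p3Node4
import Cfsg.Agent.Helper7.J2Mult.p3Node5
import Cfsg.Agent.Helper7.J2Mult.p3Node6
import Cfsg.Agent.Helper7.J2Mult.p3Node7
import Cfsg.Agent.Helper7.J2Mult.p3Node8
import Cfsg.Agent.Helper7.J2Mult.p3Node9
import Cfsg.Agent.Helper7.J2Mult.p3Node10
import Cfsg.Agent.Helper7.J2Mult.p3Node11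
import Cfsg.Agent.Helper7.J2Mult.p3ChkAll
import Cfsg.Agent.Helper7.ModTC.Lin
import Cfsg.Agent.Helper98.J2Bsgs

set_option autoImplicit false
set_option maxRecDepth 1000000
set_option maxHeartbeats 0

namespace Cfsg.Agent.Helper7.J2Mult

open Cfsg.Agent.Helper7.J2 Cfsg.Agent.Helper98.J2 Cfsg.Agent.Helper7.ModTC

universe u

theorem p3_node : ∀ c < p3C.N, nodeChk p3Li p3C p3T c = true := by
  intro c hc
  have hc' : c < 6048 := hc
  rcases Nat.lt_or_ge c 512 with h0 | h0
  · exact nodeRange_spec p3_node0 (by omega) (by omega)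
  rcases Nat.lt_or_ge c 1024 with h1 | h1
  · exact nodeRange_spec p3_node1 (by omega) (by omega)
  rcases Nat.lt_or_ge c 1536 with h2 | h2
  · exact nodeRange_spec p3_node2 (by omega) (by omega)
  rcases Nat.lt_or_ge c 2048 with h3 | h3
  · exact nodeRange_spec p3_node3 (by omega) (by omega)
  rcases Nat.lt_or_ge c 2560 with h4 | h4
  · exact nodeRange_spec p3_node4 (by omega) (by omega)
  rcases Nat.lt_or_ge c 3072 with h5 | h5
  · exact nodeRange_spec p3_node5 (by omega) (by omega)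
  rcases Nat.lt_or_ge c 3584 with h6 | h6
  · exact nodeRange_spec p3_node6 (by omega) (by omega)
  rcases Nat.lt_or_ge c 4096 with h7 | h7
  · exact nodeRange_spec p3_node7 (by omega) (by omega)
  rcases Nat.lt_or_ge c 4608 with h8 | h8
  · exact nodeRange_spec p3_node8 (by omega) (by omega)
  rcases Nat.lt_or_ge c 5120 with h9 | h9
  · exact nodeRange_spec p3_node9 (by omega) (by omega)
  rcases Nat.lt_or_ge c 5632 with h10 | h10
  · exact nodeRange_spec p3_node10 (by omega) (by omega)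
  exact nodeRange_spec p3_node11 (by omega) (by omega)

theorem p3_inv : invChk p3Li = true := by decide +kernel

theorem p3_rel : relChk p3Li 3 2 p3Rels p3Zws = true := by decide +kernel

def p3Pairs : List (ℕ × ℕ) := [(0, 68), (0, 226), (1, 309)]

def p3U : List (List ℤ) := [[-1, 0, 0], [0, 0, 1], [0, 1, 0]]

theorem p3_lin : ∀ j < 3, lincomb (p3U.getD j []) (relList p3C 24193 p3Pairs) = padUnit 3 j := by
  decide +kernel

theorem p3_glue {Γ : Type u} [Group Γ] [Finite Γ] (σ : Γ →* ↥G315)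
    (hσ : Cfsg.IsStemExtension σ) :
    Nat.card (Subgroup.closure (Set.range (xOf p3Li))) = 6048 ∧
    ∃ z : ℕ → Γ, (∀ j, z j ∈ Subgroup.center Γ) ∧ (∀ j, 3 ≤ j → z j = 1) ∧
      (∀ bd b s ρ, p3C.relVec bd b s = some ρ → zpv z 0 ρ = 1) ∧
      ∀ g ∈ σ.ker, ∃ w : List ℤ,
        g ^ (Subgroup.closure (Set.range (xOf p3Li))).index = zpv z 0 w :=
  glue_main σ hσ p3C 2 3 p3Rels p3Zws p3Li p3T rfl rfl rfl rfl p3_inv p3_rel
    p3_node (by decide +kernel) (by decide) p3_chk

theorem p3_index {Γ : Type u} [Group Γ] [Finite Γ] (σ : Γ →* ↥G315)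
    (hσ : Cfsg.IsStemExtension σ) :
    (Subgroup.closure (Set.range (xOf p3Li))).index = 100 := by
  have h1 := (p3_glue σ hσ).1
  have h2 := Subgroup.card_mul_index (Subgroup.closure (Set.range (xOf p3Li)))
  rw [h1, card_G315] at h2
  omega

/-- every element of the kernel of a finite stem extension of `G315` has order dividing `100` -/
theorem p3_main {Γ : Type u} [Group Γ] [Finite Γ] (σ : Γ →* ↥G315)
    (hσ : Cfsg.IsStemExtension σ) : ∀ g ∈ σ.ker, g ^ 100 = 1 := by
  obtain ⟨-, z, hz, hzm, hrel, hker⟩ := p3_glue σ hσ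
  intro g hg
  obtain ⟨w, hw⟩ := hker g hg
  rw [p3_index σ hσ] at hw
  rw [hw]
  exact all_one hz 3 hzm _ (relList_spec (C := p3C) (bd := 24193) (pairs := p3Pairs) hrel)
    p3U p3_lin w

end Cfsg.Agent.Helper7.J2Mult
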