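import Cfsg.Agent.Helper7.J2Mult.p2Main
import Cfsg.Agent.Helper7.J2Mult.p3Main
import Cfsg.Agent.Helper7.J2Mult.Five

/-!
# The kernel of a finite stem extension of the Hall–Janko group has at most two elements
-/

set_option autoImplicit false

namespace Cfsg.Agent.Helper7.J2Mult

open Cfsg.Agent.Helper7.J2 Cfsg.Agent.Helper98.J2

universe u

theorem card_ker_le_two {Γ : Type u} [Group Γ] [Finite Γ] (σ : Γ →* ↥G315)
    (hσ : Cfsg.IsStemExtension σ) : Nat.card σ.ker ≤ 2 := by
  have h100 := p3_main σ hσ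
  have h5 := five_main σ hσ
  obtain ⟨ζ, hζ2, h315⟩ := p2_main σ hσ
  have hζinv : ζ⁻¹ = ζ := by
    apply inv_eq_of_mul_eq_one_left
    rw [← pow_two, hζ2]
  have hsub : (σ.ker : Set Γ) ⊆ {1, ζ} := by
    intro g hg
    have hg' : g ∈ σ.ker := hg
    have h4 : g ^ 4 = 1 := by
      have := pow_gcd_eq_one.mpr ⟨h100 g hg', h5 g hg'⟩
      have e : Nat.gcd 100 24192 = 4 := by norm_num
      rwa [e] at this
    have h3 : g ^ 315 = g⁻¹ := by
      have e : g ^ 315 = (g ^ 4) ^ 78 * g ^ 3 := by rw [← pow_mul, ← pow_add]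
      rw [e, h4, one_pow, one_mul]
      apply eq_inv_of_mul_eq_one_left
      rw [← pow_succ, h4]
    simp only [Set.mem_insert_iff, Set.mem_singleton_iff]
    rcases h315 g hg' with h | h
    · left
      rw [h3] at h
      exact inv_eq_one.mp h
    · right
      rw [h3] at h
      rw [← inv_inv g, h, hζinv]
  have hfin : ({1, ζ} : Set Γ).Finite := Set.toFinite _
  have h2 : ({1, ζ} : Set Γ).ncard ≤ 2 := by
    have := Set.ncard_insert_le (1 : Γ) {ζ}
    rw [Set.ncard_singleton] at this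
    exact this
  calc Nat.card σ.ker = (σ.ker : Set Γ).ncard := Nat.card_coe_set_eq _
    _ ≤ ({1, ζ} : Set Γ).ncard := Set.ncard_le_ncard hsub hfin
    _ ≤ 2 := h2

end Cfsg.Agent.Helper7.J2Mult
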