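import Cfsg.Agent.Helper7.J2Mult.p2Chk0
import Cfsg.Agent.Helper7.J2Mult.p2Chk1
import Cfsg.Agent.Helper7.J2Mult.p2Chk2
import Cfsg.Agent.Helper7.J2Mult.p2Chk3
import Cfsg.Agent.Helper7.J2Mult.p2Chk4
import Cfsg.Agent.Helper7.J2Mult.p2Chk5
import Cfsg.Agent.Helper7.J2Mult.p2Chk6
import Cfsg.Agent.Helper7.J2Mult.p2Chk7

set_option autoImplicit false
set_option maxRecDepth 1000000
set_option maxHeartbeats 0

namespace Cfsg.Agent.Helper7.J2Mult

open Cfsg.Agent.Helper7.ModTC

theorem p2_chk : ∀ c l, c < p2C.N → l < p2C.nl → p2C.chkEdge c l = true := by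
  intro c l hc hl
  have hc' : c < 1920 := hc
  rcases Nat.lt_or_ge c 256 with h0 | h0
  · exact p2C.chkRange_spec p2_chk0 (by omega) (by omega) hl
  rcases Nat.lt_or_ge c 512 with h1 | h1
  · exact p2C.chkRange_spec p2_chk1 (by omega) (by omega) hl
  rcases Nat.lt_or_ge c 768 with h2 | h2
  · exact p2C.chkRange_spec p2_chk2 (by omega) (by omega) hl
  rcases Nat.lt_or_ge c 1024 with h3 | h3
  · exact p2C.chkRange_spec p2_chk3 (by omega) (by omega) hl
  rcases Nat.lt_or_ge c 1280 with h4 | h4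
  · exact p2C.chkRange_spec p2_chk4 (by omega) (by omega) hl
  rcases Nat.lt_or_ge c 1536 with h5 | h5
  · exact p2C.chkRange_spec p2_chk5 (by omega) (by omega) hl
  rcases Nat.lt_or_ge c 1792 with h6 | h6
  · exact p2C.chkRange_spec p2_chk6 (by omega) (by omega) hl
  exact p2C.chkRange_spec p2_chk7 (by omega) (by omega) hl

end Cfsg.Agent.Helper7.J2Mult
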