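import Cfsg.Agent.Helper7.J2Mult.p2Data
import Cfsg.Agent.Helper7.J2Mult.Glue

set_option autoImplicit false
set_option maxRecDepth 1000000
set_option maxHeartbeats 0

namespace Cfsg.Agent.Helper7.J2Mult

open Cfsg.Agent.Helper7.ModTC

theorem p2_node1 : nodeRange p2Li p2C p2T 512 512 = true := by decide +kernel

end Cfsg.Agent.Helper7.J2Mult
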