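import Cfsg.Agent.Helper7.J2Mult.p2Node0
import Cfsg.Agent.Helper7.J2Mult.p2Node1
import Cfsg.Agent.Helper7.J2Mult.p2Node2
import Cfsg.Agent.Helper7.J2Mult.p2Node3
import Cfsg.Agent.Helper7.J2Mult.p2ChkAll
import Cfsg.Agent.Helper7.ModTC.Lin
import Cfsg.Agent.Helper98.J2Bsgs

set_option autoImplicit false
set_option maxRecDepth 1000000
set_option maxHeartbeats 0

namespace Cfsg.Agent.Helper7.J2Mult

open Cfsg.Agent.Helper7.J2 Cfsg.Agent.Helper98.J2 Cfsg.Agent.Helper7.ModTC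

universe u

theorem p2_node : ∀ c < p2C.N, nodeChk p2Li p2C p2T c = true := by
  intro c hc
  have hc' : c < 1920 := hc
  rcases Nat.lt_or_ge c 512 with h0 | h0
  · exact nodeRange_spec p2_node0 (by omega) (by omega)
  rcases Nat.lt_or_ge c 1024 with h1 | h1
  · exact nodeRange_spec p2_node1 (by omega) (by omega)
  rcases Nat.lt_or_ge c 1536 with h2 | h2
  · exact nodeRange_spec p2_node2 (by omega) (by omega)
  exact nodeRange_spec p2_node3 (by omega) (by omega)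

theorem p2_inv : invChk p2Li = true := by decide +kernel

theorem p2_rel : relChk p2Li 6 3 p2Rels p2Zws = true := by decide +kernel

def p2Pairs : List (ℕ × ℕ) := [(5, 90), (0, 383), (0, 1720), (1, 102), (1, 169), (2, 712)]

def p2U : List (List ℤ) := [[0, 0, 0, 0, 0, 0], [0, 0, -1, 0, 0, -1], [0, -1, 0, 0, 1, -1], [1, 0, 0, 0, 0, 0], [0, 0, -1, 0, 0, 0], [0, 0, 0, -1, 0, 0]]

def p2U0 : List ℤ := [0, 1, 1, 0, 0, 1]

def p2Eps : List ℤ := [1, 1, 1, 0, 1, 1]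

theorem p2_lin0 : lincomb p2U0 (relList p2C 11521 p2Pairs) = vsmul 2 (padUnit 6 0) := by
  decide +kernel

theorem p2_lin : ∀ j < 6, lincomb (p2U.getD j []) (relList p2C 11521 p2Pairs) =
    vadd (padUnit 6 j) (vsmul (-(p2Eps.getD j 0)) (padUnit 6 0)) := by
  decide +kernel

theorem p2_glue {Γ : Type u} [Group Γ] [Finite Γ] (σ : Γ →* ↥G315)
    (hσ : Cfsg.IsStemExtension σ) :
    Nat.card (Subgroup.closure (Set.range (xOf p2Li))) = 1920 ∧
    ∃ z : ℕ → Γ, (∀ j, z j ∈ Subgroup.center Γ) ∧ (∀ j, 6 ≤ j → z j = 1) ∧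
      (∀ bd b s ρ, p2C.relVec bd b s = some ρ → zpv z 0 ρ = 1) ∧
      ∀ g ∈ σ.ker, ∃ w : List ℤ,
        g ^ (Subgroup.closure (Set.range (xOf p2Li))).index = zpv z 0 w :=
  glue_main σ hσ p2C 3 6 p2Rels p2Zws p2Li p2T rfl rfl rfl rfl p2_inv p2_rel
    p2_node (by decide +kernel) (by decide) p2_chk

theorem p2_index {Γ : Type u} [Group Γ] [Finite Γ] (σ : Γ →* ↥G315)
    (hσ : Cfsg.IsStemExtension σ) :
    (Subgroup.closure (Set.range (xOf p2Li))).index = 315 := by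
  have h1 := (p2_glue σ hσ).1
  have h2 := Subgroup.card_mul_index (Subgroup.closure (Set.range (xOf p2Li)))
  rw [h1, card_G315] at h2
  omega

/-- the `315`-th powers of the elements of the kernel of a finite stem extension of `G315` lie in
a subgroup of order at most two -/
theorem p2_main {Γ : Type u} [Group Γ] [Finite Γ] (σ : Γ →* ↥G315)
    (hσ : Cfsg.IsStemExtension σ) :
    ∃ ζ : Γ, ζ ^ 2 = 1 ∧ ∀ g ∈ σ.ker, g ^ 315 = 1 ∨ g ^ 315 = ζ := by
  obtain ⟨-, z, hz, hzm, hrel, hker⟩ := p2_glue σ hσ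
  obtain ⟨h2, hall⟩ := two_case hz 6 0 hzm _
    (relList_spec (C := p2C) (bd := 11521) (pairs := p2Pairs) hrel) p2Eps p2U0 p2U
    p2_lin0 p2_lin
  refine ⟨z 0, h2, ?_⟩
  intro g hg
  obtain ⟨w, hw⟩ := hker g hg
  rw [p2_index σ hσ] at hw
  rw [hw]
  exact hall w

end Cfsg.Agent.Helper7.J2Mult
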